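import Cfsg.Agent.H959.Rad3.Iface
import Cfsg.Agent.StandardComponent.SpTwoAut

/-!
# `Sp₆(2)`, elements of order three (helper216, for S3854, S3832, S4336)

* `exists_pair` : an isometry of order 3 of a nondegenerate alternating space over `ZMod 2` has an invariant hyperbolic
  plane on which it acts in one of two standard ways, with invariant orthogonal space;
* `exists_conj` : elements of order 3 of `Sp₆(2)` are conjugate to one of 7 matrices `am ε`;
* `irow_sp62`.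
-/

set_option autoImplicit false
set_option maxRecDepth 10000

namespace Cfsg.Agent.H216.Rad3.SpSix

open Subgroup Matrix Cfsg.Agent.H459.Rad Cfsg.Agent.H959.Rad3 Cfsg.Agent.StandardComponent.SpTwoAut

section abs

variable {V : Type*} [AddCommGroup V] [Module (ZMod 2) V]

theorem two_eq (v : V) : v + v = 0 := by
  rw [← two_smul (ZMod 2) v, show (2 : ZMod 2) = 0 from rfl, zero_smul]

theorem zmod_two (x : ZMod 2) : x = 0 ∨ x = 1 := by
  revert x; decide

/-- **invariant hyperbolic planes** -/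
theorem exists_pair (B : LinearMap.BilinForm (ZMod 2) V) (halt : ∀ v, B v v = 0) (T : V →ₗ[ZMod 2] V)
    (hT : ∀ v w, B (T v) (T w) = B v w) (hT3 : ∀ v, T (T (T v)) = v) (W : Submodule (ZMod 2) V)
    (hTW : ∀ w ∈ W, T w ∈ W) (hnd : ∀ w ∈ W, (∀ u ∈ W, B w u = 0) → w = 0) (hne : ∃ w ∈ W, w ≠ 0) :
    ∃ e ∈ W, ∃ f ∈ W, ∃ ε : Bool, B e f = 1 ∧ (ε = true → T e = f ∧ T f = e + f) ∧
      (ε = false → T e = e ∧ T f = f) ∧ ∀ w, B w e = 0 → B w f = 0 → B (T w) e = 0 ∧ B (T w) f = 0 := by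
  have hsymm : ∀ v w, B v w = B w v := by
    intro v w
    have h1 := halt (v + w)
    simp only [map_add, LinearMap.add_apply, halt, zero_add, add_zero] at h1
    have h2 : B v w + B v w = 0 := two_eq _
    have h3 : B w v + B v w = 0 := h1
    exact (add_right_cancel (h3.trans h2.symm)).symm
  by_cases hfix : ∀ w ∈ W, T w = w
  · obtain ⟨e, he, he0⟩ := hne
    obtain ⟨f, hf, hef⟩ : ∃ f ∈ W, B e f ≠ 0 := by
      by_contra hcon
      push Not at hcon
      exact he0 (hnd e he hcon)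
    refine ⟨e, he, f, hf, false, (zmod_two _).resolve_left hef, fun h => absurd h (by decide),
      fun _ => ⟨hfix e he, hfix f hf⟩, fun w h1 h2 => ⟨?_, ?_⟩⟩
    · have := hT w e
      rw [hfix e he] at this
      rw [this, h1]
    · have := hT w f
      rw [hfix f hf] at this
      rw [this, h2]
  · push Not at hfix
    obtain ⟨w0, hw0, hw0'⟩ := hfix
    -- the vectors killed by `1 + T + T²`
    have key : ∃ v ∈ W, v + T v + T (T v) = 0 ∧ B v (T v) ≠ 0 := by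
      by_contra hcon
      push Not at hcon
      have hiso : ∀ v ∈ W, v + T v + T (T v) = 0 → ∀ u ∈ W, u + T u + T (T u) = 0 → B v u = 0 := by
        intro v hv hv1 u hu hu1
        have h1 := hcon (v + u) (W.add_mem hv hu) (by
          rw [map_add, map_add]
          calc v + u + (T v + T u) + (T (T v) + T (T u)) = (v + T v + T (T v)) + (u + T u + T (T u)) := by abel
            _ = 0 := by rw [hv1, hu1, add_zero])
        simp only [map_add, LinearMap.add_apply, hcon v hv hv1, hcon u hu hu1, zero_add, add_zero] at h1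
        -- `B v (T u) = B u (T v)`
        have h2 : B v (T u) = B u (T v) := by
          have h3 : B u (T v) + B u (T v) = 0 := two_eq _
          first
            | exact add_right_cancel (h1.trans h3.symm)
            | exact add_left_cancel (h1.trans h3.symm)
        have h3 : B u (T v) = B v (T (T u)) := by
          rw [hsymm u (T v), ← hT (T v) u, ← hT (T (T v)) (T u), hT3]
        have h4 : u = T u + T (T u) := by
          have h5 : u + (T u + T (T u)) = 0 := by rw [← add_assoc]; exact hu1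
          have h6 : u + u = 0 := two_eq u
          exact add_left_cancel (h6.trans h5.symm)
        rw [h4, map_add, h2, h3]
        exact two_eq _
      set v := w0 + T w0 with hv
      have hvW : v ∈ W := W.add_mem hw0 (hTW _ hw0)
      have hv0 : v ≠ 0 := by
        intro h
        apply hw0'
        have h6 : w0 + w0 = 0 := two_eq w0
        exact add_left_cancel ((hv ▸ h).trans h6.symm)
      have hv1 : v + T v + T (T v) = 0 := by
        rw [hv, map_add, map_add, hT3]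
        calc w0 + T w0 + (T w0 + T (T w0)) + (T (T w0) + w0)
            = (w0 + w0) + (T w0 + T w0) + (T (T w0) + T (T w0)) := by abel
          _ = 0 := by simp only [two_eq, add_zero]
      refine hv0 (hnd v hvW fun w hw => ?_)
      have hz : ∀ z, T z = z → B v z = 0 := by
        intro z hz
        have h1 : B (T v) z = B v z := by
          conv_lhs => rw [← hz]
          exact hT v z
        have h2 : B (T (T v)) z = B v z := by
          conv_lhs => rw [← hz]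
          rw [hT, h1]
        have h3 : B (v + T v + T (T v)) z = B v z + B v z + B v z := by
          rw [map_add, map_add, LinearMap.add_apply, LinearMap.add_apply, h1, h2]
        rw [hv1, map_zero, LinearMap.zero_apply, two_eq, zero_add] at h3
        exact h3.symm
      have h1 : w = (w + T w + T (T w)) + (T w + T (T w)) := by
        calc w = w + (T w + T w) + (T (T w) + T (T w)) := by simp only [two_eq, add_zero]
          _ = _ := by abel
      rw [h1, map_add, hz _ (by rw [map_add, map_add, hT3]; abel), zero_add]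
      refine hiso v hvW hv1 _ (W.add_mem (hTW _ hw) (hTW _ (hTW _ hw))) ?_
      rw [map_add, map_add, hT3]
      calc T w + T (T w) + (T (T w) + w) + (w + T w)
          = (w + w) + (T w + T w) + (T (T w) + T (T w)) := by abel
        _ = 0 := by simp only [two_eq, add_zero]
    obtain ⟨v, hv, hv1, hv2⟩ := key
    have hTT : T (T v) = v + T v := by
      have h2 : v + T v + (v + T v) = 0 := two_eq _
      exact add_left_cancel (hv1.trans h2.symm)
    refine ⟨v, hv, T v, hTW _ hv, true, (zmod_two _).resolve_left hv2, fun _ => ⟨rfl, hTT⟩,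
      fun h => absurd h (by decide), fun w h1 h2 => ⟨?_, ?_⟩⟩
    · have h3 := hT w (v + T v)
      have h5 : B w (v + T v) = 0 := by rw [map_add, h1, h2, add_zero]
      rw [h5, map_add, hTT] at h3
      have h4 : T v + (v + T v) = v := by
        calc T v + (v + T v) = v + (T v + T v) := by abel
          _ = v := by rw [two_eq, add_zero]
      rwa [h4] at h3
    · rw [hT, h1]

/-- the orthogonal space of the plane -/
theorem exists_next (B : LinearMap.BilinForm (ZMod 2) V) (halt : ∀ v, B v v = 0) (T : V →ₗ[ZMod 2] V)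
    (W : Submodule (ZMod 2) V) (hTW : ∀ w ∈ W, T w ∈ W) (hnd : ∀ w ∈ W, (∀ u ∈ W, B w u = 0) → w = 0)
    {e f : V} (he : e ∈ W) (hf : f ∈ W) (hef : B e f = 1)
    (hinv : ∀ w, B w e = 0 → B w f = 0 → B (T w) e = 0 ∧ B (T w) f = 0) :
    ∃ W' : Submodule (ZMod 2) V, (∀ w, w ∈ W' ↔ w ∈ W ∧ B w e = 0 ∧ B w f = 0) ∧ (∀ w ∈ W', T w ∈ W') ∧
      (∀ w ∈ W', (∀ u ∈ W', B w u = 0) → w = 0) ∧
      ∀ u ∈ W, ∃ a b : ZMod 2, ∃ w' ∈ W', u = w' + a • e + b • f := by
  have hsymm : ∀ v w, B v w = B w v := by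
    intro v w
    have h1 := halt (v + w)
    simp only [map_add, LinearMap.add_apply, halt, zero_add, add_zero] at h1
    have h2 : B v w + B v w = 0 := two_eq _
    have h3 : B w v + B v w = 0 := h1
    exact (add_right_cancel (h3.trans h2.symm)).symm
  have hfe : B f e = 1 := by rw [hsymm, hef]
  let W' : Submodule (ZMod 2) V :=
    { carrier := {w | w ∈ W ∧ B w e = 0 ∧ B w f = 0}
      add_mem' := by
        rintro a b ⟨ha, ha1, ha2⟩ ⟨hb, hb1, hb2⟩
        refine ⟨W.add_mem ha hb, ?_, ?_⟩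
        · rw [map_add, LinearMap.add_apply, ha1, hb1, add_zero]
        · rw [map_add, LinearMap.add_apply, ha2, hb2, add_zero]
      zero_mem' := ⟨W.zero_mem, by rw [map_zero, LinearMap.zero_apply], by rw [map_zero, LinearMap.zero_apply]⟩
      smul_mem' := by
        rintro c a ⟨ha, ha1, ha2⟩
        refine ⟨W.smul_mem c ha, ?_, ?_⟩
        · rw [map_smul, LinearMap.smul_apply, ha1, smul_zero]
        · rw [map_smul, LinearMap.smul_apply, ha2, smul_zero] }
  have hmem : ∀ w, w ∈ W' ↔ w ∈ W ∧ B w e = 0 ∧ B w f = 0 := fun w => Iff.rfl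
  have hdec : ∀ u ∈ W, ∃ a b : ZMod 2, ∃ w' ∈ W', u = w' + a • e + b • f := by
    intro u hu
    refine ⟨B u f, B u e, u - B u f • e - B u e • f, ⟨W.sub_mem (W.sub_mem hu (W.smul_mem _ he)) (W.smul_mem _ hf),
      ?_, ?_⟩, by abel⟩
    · simp only [map_sub, map_smul, LinearMap.sub_apply, LinearMap.smul_apply, halt, hfe, smul_eq_mul, mul_one,
        mul_zero, sub_zero, sub_self]
    · simp only [map_sub, map_smul, LinearMap.sub_apply, LinearMap.smul_apply, halt, hef, smul_eq_mul, mul_one,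
        mul_zero, sub_zero, sub_self]
  refine ⟨W', hmem, ?_, ?_, hdec⟩
  · rintro w ⟨hw, h1, h2⟩
    exact ⟨hTW w hw, hinv w h1 h2⟩
  · rintro w ⟨hw, h1, h2⟩ h
    refine hnd w hw fun u hu => ?_
    obtain ⟨a, b, w', hw', rfl⟩ := hdec u hu
    rw [map_add, map_add, h w' hw', map_smul, map_smul, h1, h2, smul_zero, smul_zero, add_zero, add_zero]

end abs

/-! ### matrices -/

/-- positions -/
def ix : Fin 3 ⊕ Fin 3 → Fin 6
  | Sum.inl i => ⟨i.1, by omega⟩
  | Sum.inr i => ⟨i.1 + 3, by omega⟩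

/-- involutions -/
def tF : Bool → Bool → Bool → Fin 6 → Fin 6 → ZMod 2
  | false, false, true => ![![0, 0, 0, 0, 1, 1], ![0, 1, 1, 1, 1, 0], ![1, 0, 0, 1, 0, 1], ![1, 0, 1, 0, 0, 1], ![0, 0, 0, 0, 1, 0], ![1, 0, 0, 0, 1, 0]]
  | false, true, false => ![![1, 0, 0, 0, 0, 0], ![0, 0, 1, 0, 0, 1], ![1, 0, 1, 0, 1, 1], ![0, 1, 1, 1, 0, 1], ![1, 1, 1, 0, 0, 0], ![1, 1, 1, 0, 1, 1]]
  | false, true, true => ![![0, 1, 0, 0, 0, 0], ![1, 0, 0, 0, 0, 0], ![1, 1, 1, 0, 0, 0], ![0, 0, 1, 0, 1, 1], ![0, 0, 1, 1, 0, 1], ![1, 1, 0, 0, 0, 1]]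
  | true, false, false => ![![0, 1, 0, 1, 1, 0], ![1, 0, 0, 1, 1, 0], ![1, 1, 0, 0, 0, 1], ![0, 0, 1, 0, 1, 1], ![0, 0, 1, 1, 0, 1], ![1, 1, 1, 0, 0, 0]]
  | true, false, true => ![![0, 0, 1, 1, 1, 0], ![1, 1, 1, 1, 1, 0], ![0, 0, 1, 0, 0, 0], ![0, 1, 1, 0, 1, 0], ![1, 1, 0, 0, 1, 0], ![1, 0, 1, 1, 1, 1]]
  | true, true, false => ![![0, 0, 1, 1, 1, 0], ![1, 1, 1, 1, 1, 0], ![0, 1, 1, 0, 0, 1], ![1, 0, 1, 0, 1, 0], ![0, 1, 0, 0, 1, 1], ![1, 0, 1, 1, 1, 1]]
  | true, true, true => ![![0, 1, 0, 0, 0, 0], ![1, 0, 0, 0, 0, 0], ![0, 1, 1, 0, 0, 1], ![1, 1, 1, 0, 1, 0], ![1, 0, 1, 1, 0, 1], ![1, 1, 0, 0, 0, 1]]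
  | false, false, false => fun _ _ => 0

/-- orders -/
def oF : Bool → Bool → Bool → ℕ
  | false, false, true => 5
  | false, true, false => 5
  | false, true, true => 7
  | true, false, false => 5
  | true, false, true => 7
  | true, true, false => 7
  | true, true, true => 7
  | false, false, false => 1

/-- the involution -/
def tm (ε : Fin 3 → Bool) : Matrix (Fin 3 ⊕ Fin 3) (Fin 3 ⊕ Fin 3) (ZMod 2) :=
  fun i j => tF (ε 0) (ε 1) (ε 2) (ix i) (ix j)

/-- columns of the standard element of order three -/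
def col (ε : Fin 3 → Bool) : Fin 3 ⊕ Fin 3 → (Fin 3 ⊕ Fin 3) → ZMod 2
  | Sum.inl i => if ε i then Pi.single (Sum.inr i) 1 else Pi.single (Sum.inl i) 1
  | Sum.inr i => if ε i then Pi.single (Sum.inl i) 1 + Pi.single (Sum.inr i) 1 else Pi.single (Sum.inr i) 1

/-- the standard element of order three -/
def am (ε : Fin 3 → Bool) : Matrix (Fin 3 ⊕ Fin 3) (Fin 3 ⊕ Fin 3) (ZMod 2) := fun i j => col ε j i

theorem check : ∀ ε : Fin 3 → Bool, ε ≠ (fun _ => false) →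
    tm ε * J (Fin 3) (ZMod 2) * (tm ε)ᵀ = J (Fin 3) (ZMod 2) ∧ tm ε * tm ε = 1 ∧
      (am ε * tm ε) ^ oF (ε 0) (ε 1) (ε 2) = 1 ∧ am ε * tm ε ≠ 1 := by
  decide +kernel

theorem am_false : am (fun _ => false) = 1 := by decide +kernel

theorem cop : ∀ ε : Fin 3 → Bool, Nat.Coprime (oF (ε 0) (ε 1) (ε 2)) 6 := by decide +kernel

theorem halt0 : ∀ v : Fin 3 ⊕ Fin 3 → ZMod 2, v ⬝ᵥ (J (Fin 3) (ZMod 2)) *ᵥ v = 0 := by decide +kernel

theorem hnd0 : ∀ w : Fin 3 ⊕ Fin 3 → ZMod 2, (∀ j, w ⬝ᵥ (J (Fin 3) (ZMod 2)) *ᵥ (Pi.single j 1) = 0) → w = 0 := by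
  decide +kernel

/-- the form -/
theorem exists_form : ∃ Bf : LinearMap.BilinForm (ZMod 2) (Fin 3 ⊕ Fin 3 → ZMod 2),
    ∀ v w, Bf v w = v ⬝ᵥ (J (Fin 3) (ZMod 2)) *ᵥ w :=
  ⟨Matrix.toBilin' (J (Fin 3) (ZMod 2)), fun _ _ => Matrix.toBilin'_apply' _ _ _⟩

theorem J_apply (i j : Fin 3) : J (Fin 3) (ZMod 2) (Sum.inl i) (Sum.inl j) = 0 ∧
    J (Fin 3) (ZMod 2) (Sum.inr i) (Sum.inr j) = 0 ∧
    J (Fin 3) (ZMod 2) (Sum.inl i) (Sum.inr j) = (if i = j then 1 else 0) ∧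
    J (Fin 3) (ZMod 2) (Sum.inr i) (Sum.inl j) = (if i = j then 1 else 0) := by
  revert i j; decide +kernel

theorem basis_of {Bf : LinearMap.BilinForm (ZMod 2) (Fin 3 ⊕ Fin 3 → ZMod 2)} {e f : Fin 3 → (Fin 3 ⊕ Fin 3 → ZMod 2)} (halt : ∀ v, Bf v v = 0) (hsymm : ∀ v w, Bf v w = Bf w v)
    (hd : ∀ i, Bf (e i) (f i) = 1) (hlt : ∀ i j : Fin 3, i < j → Bf (e j) (e i) = 0 ∧ Bf (e j) (f i) = 0 ∧
      Bf (f j) (e i) = 0 ∧ Bf (f j) (f i) = 0) (i j : Fin 3 ⊕ Fin 3) :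
    Bf (Sum.elim e f i) (Sum.elim e f j) = J (Fin 3) (ZMod 2) i j := by
  rcases i with i | i <;> rcases j with j | j
  · rw [(J_apply i j).1]
    show Bf (e i) (e j) = 0
    rcases lt_trichotomy i j with h | rfl | h
    · rw [hsymm]; exact (hlt i j h).1
    · exact halt _
    · exact (hlt j i h).1
  · rw [(J_apply i j).2.2.1]
    show Bf (e i) (f j) = _
    rcases lt_trichotomy i j with h | rfl | h
    · rw [if_neg h.ne, hsymm]; exact (hlt i j h).2.2.1
    · rw [if_pos rfl]; exact hd i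
    · rw [if_neg h.ne']; exact (hlt j i h).2.1
  · rw [(J_apply i j).2.2.2]
    show Bf (f i) (e j) = _
    rcases lt_trichotomy i j with h | rfl | h
    · rw [if_neg h.ne, hsymm]; exact (hlt i j h).2.1
    · rw [if_pos rfl, hsymm]; exact hd i
    · rw [if_neg h.ne']; exact (hlt j i h).2.2.1
  · rw [(J_apply i j).2.1]
    show Bf (f i) (f j) = 0
    rcases lt_trichotomy i j with h | rfl | h
    · rw [hsymm]; exact (hlt i j h).2.2.2
    · exact halt _
    · exact (hlt j i h).2.2.2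

/-- **standard bases** -/
theorem exists_basis {a : Matrix (Fin 3 ⊕ Fin 3) (Fin 3 ⊕ Fin 3) (ZMod 2)}
    (ha : aᵀ * J (Fin 3) (ZMod 2) * a = J (Fin 3) (ZMod 2)) (ha3 : a * a * a = 1) :
    ∃ (c : Fin 3 ⊕ Fin 3 → (Fin 3 ⊕ Fin 3 → ZMod 2)) (ε : Fin 3 → Bool),
      (∀ i j, c i ⬝ᵥ (J (Fin 3) (ZMod 2)) *ᵥ c j = J (Fin 3) (ZMod 2) i j) ∧
      ∀ i : Fin 3, (ε i = true → a *ᵥ (c (Sum.inl i)) = c (Sum.inr i) ∧
          a *ᵥ (c (Sum.inr i)) = c (Sum.inl i) + c (Sum.inr i)) ∧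
        (ε i = false → a *ᵥ (c (Sum.inl i)) = c (Sum.inl i) ∧ a *ᵥ (c (Sum.inr i)) = c (Sum.inr i)) := by
  obtain ⟨Bf, Bf_apply⟩ := exists_form
  have halt : ∀ v, Bf v v = 0 := fun v => by rw [Bf_apply]; exact halt0 v
  let T := Matrix.mulVecLin a
  have hTa : ∀ v, T v = a *ᵥ v := fun v => rfl
  have hT : ∀ v w, Bf (T v) (T w) = Bf v w := by
    intro v w
    rw [hTa, hTa, Bf_apply, Bf_apply, Matrix.mulVec_mulVec, ← Matrix.vecMul_transpose, ← Matrix.dotProduct_mulVec,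
      Matrix.mulVec_mulVec, ← Matrix.mul_assoc, ha]
  have hT3 : ∀ v, T (T (T v)) = v := by
    intro v
    rw [hTa, hTa, hTa, Matrix.mulVec_mulVec, Matrix.mulVec_mulVec, ha3, Matrix.one_mulVec]
  have hsymm : ∀ v w, Bf v w = Bf w v := by
    intro v w
    have h1 := halt (v + w)
    simp only [map_add, LinearMap.add_apply, halt, zero_add, add_zero] at h1
    have h2 : Bf v w + Bf v w = 0 := two_eq _
    have h3 : Bf w v + Bf v w = 0 := h1
    exact (add_right_cancel (h3.trans h2.symm)).symm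
  have hnd : ∀ w ∈ (⊤ : Submodule (ZMod 2) (Fin 3 ⊕ Fin 3 → ZMod 2)), (∀ u ∈ (⊤ : Submodule (ZMod 2) _), Bf w u = 0) →
      w = 0 := by
    intro w _ h
    refine hnd0 w fun j => ?_
    rw [← Bf_apply]
    exact h _ trivial
  have hcard : Fintype.card (Fin 3 ⊕ Fin 3 → ZMod 2) = 64 := by simp
  -- first plane
  obtain ⟨e1, he1, f1, hf1, ε1, hb1, ht1, ht1', hi1⟩ := exists_pair Bf halt T hT hT3 ⊤ (fun _ _ => trivial) hnd
    ⟨Pi.single (Sum.inl 0) 1, trivial, by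
      intro h
      have := congrFun h (Sum.inl 0)
      simp at this⟩
  obtain ⟨W1, hW1, hTW1, hnd1, hdec1⟩ := exists_next Bf halt T ⊤ (fun _ _ => trivial) hnd he1 hf1 hb1 hi1
  have hne1 : ∃ w ∈ W1, w ≠ 0 := by
    by_contra hcon
    push Not at hcon
    have hs : Function.Surjective (fun q : ZMod 2 × ZMod 2 => q.1 • e1 + q.2 • f1) := by
      intro u
      obtain ⟨a, b, w', hw', h⟩ := hdec1 u trivial
      refine ⟨(a, b), ?_⟩
      rw [h, hcon w' hw', zero_add]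
    have := Fintype.card_le_of_surjective _ hs
    rw [hcard] at this
    simp at this
  obtain ⟨e2, he2, f2, hf2, ε2, hb2, ht2, ht2', hi2⟩ := exists_pair Bf halt T hT hT3 W1 hTW1 hnd1 hne1
  obtain ⟨W2, hW2, hTW2, hnd2, hdec2⟩ := exists_next Bf halt T W1 hTW1 hnd1 he2 hf2 hb2 hi2
  have hne2 : ∃ w ∈ W2, w ≠ 0 := by
    by_contra hcon
    push Not at hcon
    have hs : Function.Surjective (fun q : (ZMod 2 × ZMod 2) × (ZMod 2 × ZMod 2) =>
        (q.2.1 • e2 + q.2.2 • f2) + q.1.1 • e1 + q.1.2 • f1) := by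
      intro u
      obtain ⟨a, b, w', hw', h⟩ := hdec1 u trivial
      obtain ⟨c, d, w'', hw'', h'⟩ := hdec2 w' hw'
      refine ⟨((a, b), (c, d)), ?_⟩
      rw [h, h', hcon w'' hw'', zero_add]
    have := Fintype.card_le_of_surjective _ hs
    rw [hcard] at this
    simp at this
  obtain ⟨e3, he3, f3, hf3, ε3, hb3, ht3, ht3', -⟩ := exists_pair Bf halt T hT hT3 W2 hTW2 hnd2 hne2
  have a1 := (hW1 e2).1 he2
  have a2 := (hW1 f2).1 hf2
  have b1 := (hW2 e3).1 he3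
  have b2 := (hW2 f3).1 hf3
  have b3 := (hW1 e3).1 b1.1
  have b4 := (hW1 f3).1 b2.1
  refine ⟨Sum.elim ![e1, e2, e3] ![f1, f2, f3], ![ε1, ε2, ε3], ?_, ?_⟩
  · have hd : ∀ i : Fin 3, Bf (![e1, e2, e3] i) (![f1, f2, f3] i) = 1 := by
      intro i
      fin_cases i
      · exact hb1
      · exact hb2
      · exact hb3
    have hlt : ∀ i j : Fin 3, i < j → Bf (![e1, e2, e3] j) (![e1, e2, e3] i) = 0 ∧
        Bf (![e1, e2, e3] j) (![f1, f2, f3] i) = 0 ∧ Bf (![f1, f2, f3] j) (![e1, e2, e3] i) = 0 ∧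
        Bf (![f1, f2, f3] j) (![f1, f2, f3] i) = 0 := by
      intro i j hij
      fin_cases i <;> fin_cases j <;> first
        | exact absurd hij (by decide)
        | exact ⟨a1.2.1, a1.2.2, a2.2.1, a2.2.2⟩
        | exact ⟨b3.2.1, b3.2.2, b4.2.1, b4.2.2⟩
        | exact ⟨b1.2.1, b1.2.2, b2.2.1, b2.2.2⟩
    intro i j
    rw [← Bf_apply]
    exact basis_of halt hsymm hd hlt i j
  · intro i
    fin_cases i
    · exact ⟨ht1, ht1'⟩
    · exact ⟨ht2, ht2'⟩
    · exact ⟨ht3, ht3'⟩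

/-- **conjugacy** -/
theorem exists_conj (a : X) (ha : orderOf a = 3) : ∃ (g b : X) (ε : Fin 3 → Bool), g⁻¹ * a * g = b ∧
    (b : Matrix (Fin 3 ⊕ Fin 3) (Fin 3 ⊕ Fin 3) (ZMod 2)) = am ε ∧ ε ≠ fun _ => false := by
  have ha3 : a * a * a = 1 := by
    rw [← pow_three']
    exact orderOf_dvd_iff_pow_eq_one.1 ha.dvd
  obtain ⟨c, ε, hc, hε⟩ := exists_basis (a := a) (SymplecticGroup.mem_iff'.1 a.2) (congrArg Subtype.val ha3)
  let g : Matrix (Fin 3 ⊕ Fin 3) (Fin 3 ⊕ Fin 3) (ZMod 2) := fun i j => c j i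
  have hg : g ∈ symplecticGroup (Fin 3) (ZMod 2) := by
    rw [SymplecticGroup.mem_iff']
    ext i j
    rw [Matrix.mul_mul_apply, ← hc i j]
    rfl
  have hag : (a : Matrix (Fin 3 ⊕ Fin 3) (Fin 3 ⊕ Fin 3) (ZMod 2)) * g = g * am ε := by
    ext i j
    have h1 : ((a : Matrix (Fin 3 ⊕ Fin 3) (Fin 3 ⊕ Fin 3) (ZMod 2)) * g) i j = ((a : Matrix _ _ _) *ᵥ c j) i := rfl
    have h2 : (g * am ε) i j = ∑ k, c k i * col ε j k := rfl
    rw [h1, h2]
    rcases j with j | j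
    · cases h : ε j
      · rw [((hε j).2 h).1]
        simp [col, h, Pi.single_apply]
      · rw [((hε j).1 h).1]
        simp [col, h, Pi.single_apply]
    · cases h : ε j
      · rw [((hε j).2 h).2]
        simp [col, h, Pi.single_apply]
      · rw [((hε j).1 h).2]
        simp [col, h, Pi.single_apply, mul_add]
  refine ⟨⟨g, hg⟩, (⟨g, hg⟩ : X)⁻¹ * a * ⟨g, hg⟩, ε, rfl, ?_, ?_⟩
  · have h1 : (((⟨g, hg⟩ : X) * ((⟨g, hg⟩ : X)⁻¹ * a * ⟨g, hg⟩) : X) : Matrix (Fin 3 ⊕ Fin 3) (Fin 3 ⊕ Fin 3) (ZMod 2)) =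
        g * am ε := by
      have : (⟨g, hg⟩ : X) * ((⟨g, hg⟩ : X)⁻¹ * a * ⟨g, hg⟩) = a * ⟨g, hg⟩ := by group
      rw [this]
      exact hag
    have h2 : (((⟨g, hg⟩ : X)⁻¹ * (⟨g, hg⟩ : X) : X) : Matrix (Fin 3 ⊕ Fin 3) (Fin 3 ⊕ Fin 3) (ZMod 2)) = 1 := by
      rw [inv_mul_cancel]; rfl
    have h3 : (((⟨g, hg⟩ : X)⁻¹ : X) : Matrix (Fin 3 ⊕ Fin 3) (Fin 3 ⊕ Fin 3) (ZMod 2)) * g = 1 := h2
    have h4 := congrArg (fun m => (((⟨g, hg⟩ : X)⁻¹ : X) : Matrix (Fin 3 ⊕ Fin 3) (Fin 3 ⊕ Fin 3) (ZMod 2)) * m) h1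
    have h5 : ((((⟨g, hg⟩ : X)⁻¹ * ((⟨g, hg⟩ : X) * ((⟨g, hg⟩ : X)⁻¹ * a * ⟨g, hg⟩))) : X) :
        Matrix (Fin 3 ⊕ Fin 3) (Fin 3 ⊕ Fin 3) (ZMod 2)) = am ε := by
      refine h4.trans ?_
      rw [← Matrix.mul_assoc, h3, Matrix.one_mul]
    rwa [inv_mul_cancel_left] at h5
  · rintro rfl
    rw [am_false, Matrix.mul_one] at hag
    have h1 : a * (⟨g, hg⟩ : X) = ⟨g, hg⟩ := Subtype.ext hag
    have h2 : a = 1 := mul_eq_right.1 h1
    rw [h2, orderOf_one] at ha
    omega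

theorem irowInn : IRowInn X := by
  intro a ha _ hI
  obtain ⟨g, b, ε, hgb, hb, hε⟩ := exists_conj a ha
  have h1 := hI.conj g⁻¹
  rw [inv_inv, hgb] at h1
  obtain ⟨c1, c2, c3, c4⟩ := check ε hε
  let t : X := ⟨tm ε, SymplecticGroup.mem_iff.2 c1⟩
  have ht : t * t = 1 := Subtype.ext c2
  have h2 := h1.solvable center_eq_bot ht
  refine not_solvable_of_coprime (a := b) (b := t) (k := 1) (n := oF (ε 0) (ε 1) (ε 2)) ?_ ?_ ?_ (cop ε) ?_ h2
  · have h3 : orderOf b = 3 := by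
      rw [← hgb]
      have : g⁻¹ * a * g = MulAut.conj g⁻¹ a := by rw [MulAut.conj_apply, inv_inv]
      rw [this, MulEquiv.orderOf_eq, ha]
    exact orderOf_dvd_iff_pow_eq_one.1 h3.dvd
  · rw [pow_one, pow_two, ht]
  · apply Subtype.ext
    have h3 : (((b * t) ^ oF (ε 0) (ε 1) (ε 2) : X) : Matrix (Fin 3 ⊕ Fin 3) (Fin 3 ⊕ Fin 3) (ZMod 2)) =
        (am ε * tm ε) ^ oF (ε 0) (ε 1) (ε 2) := by
      rw [← hb]; rfl
    rw [h3, c3]; rfl
  · intro h3
    apply c4
    rw [← hb]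
    exact congrArg Subtype.val h3

/-- **The row `Sp₆(2)`.** -/
theorem irow_sp62 {K : Type*} [Group K] [Finite K] [IsSimpleGroup K] {F : Type} [Field F] [Fintype F]
    (hF : Fintype.card F = 2) (e : Nonempty (K ≃* Cfsg.PSp 3 F)) : IRow K := by
  obtain ⟨e⟩ := e
  obtain ⟨e'⟩ := exists_equiv hF
  exact IRow.congr (e.trans e') (irowInn.irow center_eq_bot fun x _ => inner x)

end Cfsg.Agent.H216.Rad3.SpSix
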